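import Cfsg.Agent.H930.GUSubG

/-!
# Overgroups of `SU_n(q₀)` in `SU_n(q)`, `n ≥ 4`: part one (helper972)

The proof of `H930.GUSub.dichotomy` with the hypothesis that `M` contains the full subfield subgroup weakened: `M` contains
the rational Siegel transformations. Parameters of transvections and Siegel transformations, transvections with centres
orthogonal to rational vectors.
-/

set_option autoImplicit false
set_option linter.unusedSectionVars false
set_option linter.unusedSimpArgs false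

namespace Cfsg.Agent.H972.GUS

open Cfsg Cfsg.Geo Cfsg.Agent.H918 Cfsg.Agent.LieClassical.HermBasic Cfsg.Agent.LieClassical.HermSiegel
open Cfsg.Agent.LieClassical.HermGen Cfsg.Agent.H930 Cfsg.Agent.H873.Sub Cfsg.Agent.H930.GUSub
open scoped Matrix MatrixGroups

section secA

variable {F : Type*} [Field F] [Fintype F] {n q : ℕ} {F₀ : Subfield F} [Fintype F₀] {q₀ : ℕ}
variable (S : Setup F₀ q q₀)

include S

variable {M : Subgroup (GL (Fin n) F)} (hM : ∀ (u w : Fin n → F₀) (μ : F₀), IsSiegel q₀ u w μ → HasS q M (cv F₀ u) (cv F₀ w) (μ : F))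

include hM

/-- Rational Siegel transformations are in `M`. -/
theorem hasS_rat {u w : Fin n → F₀} {μ : F₀} (h : IsSiegel q₀ u w μ) :
    HasS q M (cv F₀ u) (cv F₀ w) (μ : F) := hM u w μ h

/-- The elements of the group generated by the Siegel transformations over `F₀` lift to `M`. -/
theorem exists_lift {g : SU n F₀ q₀} (hg : g ∈ siegelGroup S.hF₀ n) :
    ∃ t ∈ M, (∀ x y, hermForm n F q ((t : Matrix (Fin n) (Fin n) F) *ᵥ x) ((t : Matrix (Fin n) (Fin n) F) *ᵥ y) =
      hermForm n F q x y) ∧ ∀ x : Fin n → F₀, (t : Matrix (Fin n) (Fin n) F) *ᵥ cv F₀ x = cv F₀ (act g x) := by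
  induction hg using Subgroup.closure_induction with
  | mem g hg =>
    obtain ⟨u, w, μ, h, rfl⟩ := hg
    obtain ⟨hs, -⟩ := hasS_rat S hM h
    refine ⟨_, (hasS_rat S hM h).mem_of S.hF hs, (suHom_mem (siegel S.hF _ _ _ hs)).1, fun x => ?_⟩
    rw [coe_suHom, act_siegel, cv_add, cv_add, cv_smul, cv_smul]
    have := siegelMat_mulVec (q := q) (cv F₀ u) (cv F₀ w) (μ : F) (cv F₀ x)
    rw [herm_cv S, herm_cv S] at this
    push_cast
    exact this
  | one => exact ⟨1, M.one_mem, fun x y => by simp, fun x => by simp [act_one]⟩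
  | mul a b _ _ ha hb =>
    obtain ⟨s, hs, hsu, hsx⟩ := ha
    obtain ⟨t, ht, htu, htx⟩ := hb
    refine ⟨s * t, M.mul_mem hs ht, fun x y => ?_, fun x => ?_⟩
    · rw [Units.val_mul, ← Matrix.mulVec_mulVec, ← Matrix.mulVec_mulVec, hsu, htu]
    · rw [Units.val_mul, ← Matrix.mulVec_mulVec, htx, hsx, act_mul]
  | inv a _ ha =>
    obtain ⟨s, hs, hsu, hsx⟩ := ha
    refine ⟨s⁻¹, M.inv_mem hs, fun x y => ?_, fun x => ?_⟩
    · rw [← hsu, mulVec_inv, mulVec_inv]
    · have := hsx (act a⁻¹ x)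
      rw [act_act_inv] at this
      rw [← this, inv_mulVec]

/-- Transitivity of `M` on rational isotropic vectors. -/
theorem exists_move (hn : 3 ≤ n) {u u' : Fin n → F₀} (h0 : u ≠ 0) (h0' : u' ≠ 0)
    (hu : hermForm n F₀ q₀ u u = 0) (hu' : hermForm n F₀ q₀ u' u' = 0) :
    ∃ t ∈ M, (∀ x y, hermForm n F q ((t : Matrix (Fin n) (Fin n) F) *ᵥ x) ((t : Matrix (Fin n) (Fin n) F) *ᵥ y) =
      hermForm n F q x y) ∧ (t : Matrix (Fin n) (Fin n) F) *ᵥ cv F₀ u = cv F₀ u' ∧
      ∀ x : Fin n → F₀, ∃ y, (t : Matrix (Fin n) (Fin n) F) *ᵥ cv F₀ x = cv F₀ y := by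
  obtain ⟨g, hg, hgu⟩ := exists_map_iso S.hF₀ hn le_rfl (mem_coordSub_top u) (mem_coordSub_top u') h0 h0' hu hu'
  obtain ⟨t, ht, htu, htx⟩ := exists_lift S hM hg.1
  exact ⟨t, ht, htu, by rw [htx, hgu], fun x => ⟨_, htx x⟩⟩

/-- One rational centre, all rational centres. -/
theorem one_all (hn : 3 ≤ n) {u u' : Fin n → F₀} (h0 : u ≠ 0) (h0' : u' ≠ 0)
    (hu : hermForm n F₀ q₀ u u = 0) (hu' : hermForm n F₀ q₀ u' u' = 0) {d : F}
    (h : HasS q M (cv F₀ u) 0 d) : HasS q M (cv F₀ u') 0 d := by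
  obtain ⟨t, ht, htu, htuu, -⟩ := exists_move S hM hn h0 h0' hu hu'
  have := h.conj ht htu
  rwa [htuu, Matrix.mulVec_zero] at this

/-- Scaling by norms. -/
theorem norm_scale {u : Fin n → F₀} (h : ∀ c : F₀, c ≠ 0 → ∀ d : F, HasS q M (cv F₀ u) 0 d → HasS q M (cv F₀ (c • u)) 0 d)
    {d : F} (hd : HasS q M (cv F₀ u) 0 d) {s : F₀} (hs : s ^ q₀ = s) : HasS q M (cv F₀ u) 0 (s * d) := by
  by_cases hs0 : s = 0
  · subst hs0
    have : HasS q M (cv F₀ u) 0 ((0 : F₀) : F) := by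
      have h1 := hd.cancel S.hF hd
      rw [sub_self] at h1
      exact h1
    simpa using this
  obtain ⟨c, hc0, hc⟩ := exists_norm_eq_ne S.hF₀ hs hs0
  have h1 := h c hc0 d hd
  rw [cv_smul] at h1
  have h2 := h1.smul_center S.hF (by simpa using hc0)
  refine h2.congr (smul_zero _) ?_
  rw [S.pow_eq]
  have := congrArg (fun z : F₀ => (z : F)) hc
  simp only [MulMemClass.coe_mul] at this
  rw [this]

end secA

section secB



variable {F : Type*} [Field F] [Fintype F] {n q : ℕ} {F₀ : Subfield F} [Fintype F₀] {q₀ : ℕ}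

/-- Parameters of transvections with rational centres. -/
def AA (F₀ : Subfield F) [Fintype F₀] (n q q₀ : ℕ) (M : Subgroup (GL (Fin n) F)) (d : F) : Prop :=
  ∀ u : Fin n → F₀, u ≠ 0 → hermForm n F₀ q₀ u u = 0 → HasS q M (cv F₀ u) 0 d

/-- Parameters of Siegel transformations with rational isotropic vectors. -/
def CC (F₀ : Subfield F) [Fintype F₀] (n q q₀ : ℕ) (M : Subgroup (GL (Fin n) F)) (c : F) : Prop :=
  ∀ w v : Fin n → F₀, w ≠ 0 → hermForm n F₀ q₀ w w = 0 → hermForm n F₀ q₀ v v = 0 →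
    hermForm n F₀ q₀ v w = 0 → ∃ μ, HasS q M (cv F₀ w) (c • cv F₀ v) μ

variable (S : Setup F₀ q q₀)
variable {M : Subgroup (GL (Fin n) F)} (hM : ∀ (u w : Fin n → F₀) (μ : F₀), IsSiegel q₀ u w μ → HasS q M (cv F₀ u) (cv F₀ w) (μ : F))

include S in
theorem AA.add {d d' : F} (h : AA F₀ n q q₀ M d) (h' : AA F₀ n q q₀ M d') : AA F₀ n q q₀ M (d + d') :=
  fun u h0 hu => (h u h0 hu).add_tv S.hF (h' u h0 hu)

include S in
theorem AA.sub {d d' : F} (h : AA F₀ n q q₀ M d) (h' : AA F₀ n q q₀ M d') : AA F₀ n q q₀ M (d - d') :=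
  fun u h0 hu => (h u h0 hu).cancel S.hF (h' u h0 hu)

include S hM

theorem AA_of (hn : 3 ≤ n) {u : Fin n → F₀} (h0 : u ≠ 0) (hu : hermForm n F₀ q₀ u u = 0) {d : F}
    (h : HasS q M (cv F₀ u) 0 d) : AA F₀ n q q₀ M d :=
  fun _ h0' hu' => one_all S hM hn h0 h0' hu hu' h

omit hM in
theorem cv_ne_zero {u : Fin n → F₀} (h : u ≠ 0) : cv F₀ u ≠ 0 := by
  intro h0
  apply h
  apply cv_injective (F₀ := F₀)
  rw [h0, cv_zero]

theorem CC_rat (c : F₀) : CC F₀ n q q₀ M (c : F) := by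
  intro w v hw0 hw hv hvw
  refine ⟨((0 : F₀) : F), ?_⟩
  rw [← cv_smul]
  apply hasS_rat S hM
  refine ⟨hw, ?_, ?_⟩
  · rw [herm_smul_left, hvw, mul_zero]
  · rw [herm_smul_left, herm_smul_right, hv, mul_zero, mul_zero, zero_pow_q S.hF₀]
    simp

omit hM in
theorem CC.add {c c' : F} (h : CC F₀ n q q₀ M c) (h' : CC F₀ n q q₀ M c') : CC F₀ n q q₀ M (c + c') := by
  intro w v hw0 hw hv hvw
  obtain ⟨μ, hμ⟩ := h w v hw0 hw hv hvw
  obtain ⟨μ', hμ'⟩ := h' w v hw0 hw hv hvw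
  exact ⟨_, (hμ.mul S.hF hμ').congr (add_smul _ _ _).symm rfl⟩

omit hM in
theorem CC.smul {c : F} (h : CC F₀ n q q₀ M c) (s : F₀) : CC F₀ n q q₀ M (s * c) := by
  intro w v hw0 hw hv hvw
  obtain ⟨μ, hμ⟩ := h w (s • v) hw0 hw (by rw [herm_smul_left, herm_smul_right, hv, mul_zero, mul_zero])
    (by rw [herm_smul_left, hvw, mul_zero])
  refine ⟨μ, hμ.congr ?_ rfl⟩
  rw [cv_smul, smul_smul, mul_comm]

theorem CC.toAA (hn : 4 ≤ n) {c : F} (h : CC F₀ n q q₀ M c) (s : F₀) :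
    AA F₀ n q q₀ M (c * s - (c * s) ^ q) := by
  -- some isotropic vector
  obtain ⟨w, w', a, b, ha, hw, -, hww, -, hww'⟩ := exists_hyp_pair (q := q₀) (n := n) S.hF₀
    (show (⟨0, by omega⟩ : Fin n) ≠ ⟨1, by omega⟩ by simp)
  have hw0 : w ≠ 0 := by
    rintro rfl
    rw [herm_zero_left] at hww'
    exact zero_ne_one hww'
  obtain ⟨v, hv0, hv, hvw, hind⟩ := exists_second S.hF₀ hn hw0 hww
  obtain ⟨z, hz, hzw, hzv⟩ := exists_partner S.hF₀ hv hvw hind
  obtain ⟨μ, hμ⟩ := h w v hw0 hww hv hvw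
  have h1 : HasS q M (cv F₀ w) (cv F₀ (s ^ q₀ • z)) ((0 : F₀) : F) := by
    apply hasS_rat S hM
    refine ⟨hww, ?_, ?_⟩
    · rw [herm_smul_left, hzw, mul_zero]
    · rw [herm_smul_left, herm_smul_right, hz, mul_zero, mul_zero, zero_pow_q S.hF₀]
      simp
  have h2 := hμ.comm S.hF h1
  apply AA_of S hM (by omega) hw0 hww
  refine h2.congr rfl ?_
  rw [cv_smul, herm_smul_left, herm_smul_right, herm_smul_left, herm_smul_right, herm_cv S, herm_cv S,
    hzv, herm_swap S.hF₀ z v, hzv, one_pow, mul_pow, S.pow_eq, S.pow_eq, pow_q_pow_q S.hF₀]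
  push_cast
  ring

theorem AA.mulCC {d c : F} (h : AA F₀ n q q₀ M d) (h' : CC F₀ n q q₀ M c) : CC F₀ n q q₀ M (d * c) := by
  intro w v hw0 hw hv hvw
  by_cases hind : ∀ c : F₀, v ≠ c • w
  · obtain ⟨z, hz, hzw, hzv⟩ := exists_partner S.hF₀ hv hvw hind
    obtain ⟨μ, hμ⟩ := h' w z hw0 hw hz hzw
    have hv0 : v ≠ 0 := by
      intro h0
      exact hind 0 (by rw [h0, zero_smul])
    have h1 := hμ.act S.hF (h v hv0 hv) (herm_cv_eq_zero S hvw)
    refine ⟨_, h1.congr ?_ rfl⟩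
    rw [herm_smul_left, herm_cv S, hzv]
    simp
  · push Not at hind
    obtain ⟨s, rfl⟩ := hind
    have h1 : HasS q M (cv F₀ w) 0 (((0 : F₀) : F)) := by
      have := hasS_rat S hM (u := w) (w := 0) (μ := 0) ⟨hw, herm_zero_left _, by
        rw [herm_zero_left, zero_pow_q S.hF₀]; simp⟩
      rwa [cv_zero] at this
    have h2 := h1.unshift S.hF (d * c * s)
    refine ⟨_, h2.congr ?_ rfl⟩
    rw [cv_smul, smul_smul, zero_add]

omit M hM in
/-- An element of `F₀` moved by the conjugation. -/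
theorem exists_moved : ∃ ω : F₀, ω ^ q₀ ≠ ω := exists_not_fixed S.hF₀

theorem CC.mul (hn : 4 ≤ n) {c c' : F} (h : CC F₀ n q q₀ M c) (h' : CC F₀ n q q₀ M c') :
    CC F₀ n q q₀ M (c * c') := by
  obtain ⟨ω, hω⟩ := exists_moved S
  have h1 := h.toAA S hM hn 1
  have h2 := h.toAA S hM hn ω
  have h3 := (h1.mulCC S hM h').smul S (ω ^ q₀)
  have h4 := (h2.mulCC S hM h').smul S (-1)
  have h5 := (h3.add S h4).smul S (ω ^ q₀ - ω)⁻¹
  have hne : (ω : F) ^ q₀ - ω ≠ 0 := by
    intro h0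
    apply hω
    rw [sub_eq_zero] at h0
    exact_mod_cast h0
  convert h5 using 1
  rw [mul_pow, mul_pow, S.pow_eq, S.pow_eq]
  push_cast
  field_simp
  ring

/-- The subalgebra of parameters. -/
def paramAlg (hn : 4 ≤ n) : Subalgebra F₀ F where
  carrier := {c | CC F₀ n q q₀ M c}
  mul_mem' h h' := CC.mul S hM hn h h'
  add_mem' h h' := CC.add S h h'
  algebraMap_mem' c := CC_rat S hM c

/-- Either all parameters occur or only the rational ones. -/
theorem all_or_rat (hn : 4 ≤ n) {r : ℕ} (hr : r.Prime) (hcard : Fintype.card F = Nat.card F₀ ^ r) :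
    (∀ c, CC F₀ n q q₀ M c) ∨ (∀ c, CC F₀ n q q₀ M c → c ∈ F₀) := by
  have hfin : Module.finrank F₀ F = r := by
    have h1 := Module.natCard_eq_pow_finrank (K := F₀) (V := F)
    rw [Nat.card_eq_fintype_card, hcard] at h1
    have h2 : 1 < Nat.card F₀ := Finite.one_lt_card
    exact (Nat.pow_right_injective h2 h1).symm
  have hs : IsSimpleOrder (Subalgebra F₀ F) :=
    Subalgebra.isSimpleOrder_of_finrank_prime F₀ F (by rw [hfin]; exact hr)
  rcases hs.eq_bot_or_eq_top (paramAlg S hM hn) with h | h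
  · right
    intro c hc
    have h1 : c ∈ paramAlg S hM hn := hc
    rw [h, Algebra.mem_bot] at h1
    obtain ⟨s, hs⟩ := h1
    rw [← hs]
    exact s.2
  · left
    intro c
    have h1 : c ∈ paramAlg S hM hn := by rw [h]; trivial
    exact h1

end secB

section secC



/-- Two elements of norm `-1`. -/
theorem exists_two_norm {K : Type*} [Field K] [Fintype K] {q : ℕ} (hK : Fintype.card K = q ^ 2) :
    ∃ a a' : K, a ≠ a' ∧ a * a ^ q = -1 ∧ a' * a' ^ q = -1 := by
  have h1 := card_norm_eq hK (c := (-1 : K)) (by rw [neg_pow_q hK, one_pow]) (neg_ne_zero.2 one_ne_zero)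
  have h2 : 1 < Nat.card {x : K // x * x ^ q = -1} := by
    rw [h1]
    have := two_le hK
    omega
  rw [Finite.one_lt_card_iff_nontrivial] at h2
  obtain ⟨a, a', h⟩ := h2
  exact ⟨a, a', fun h' => h (Subtype.ext h'), a.2, a'.2⟩

variable {F : Type*} [Field F] [Fintype F] {n q : ℕ} {F₀ : Subfield F} [Fintype F₀] {q₀ : ℕ}
variable (S : Setup F₀ q q₀)
variable {M : Subgroup (GL (Fin n) F)} (hM : ∀ (u w : Fin n → F₀) (μ : F₀), IsSiegel q₀ u w μ → HasS q M (cv F₀ u) (cv F₀ w) (μ : F))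

include S in
/-- Some rational isotropic vector is not orthogonal to a given vector. -/
theorem exists_rat_ne (hn : 2 ≤ n) {v : Fin n → F} (hv : v ≠ 0) :
    ∃ u : Fin n → F₀, u ≠ 0 ∧ hermForm n F₀ q₀ u u = 0 ∧ hermForm n F q v (cv F₀ u) ≠ 0 := by
  obtain ⟨j, hj⟩ : ∃ j, v j ≠ 0 := by
    by_contra hcon
    push Not at hcon
    exact hv (funext hcon)
  obtain ⟨i, hij⟩ : ∃ i, i ≠ j := by
    have : Nontrivial (Fin n) := Fin.nontrivial_iff_two_le.2 hn
    exact exists_ne j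
  obtain ⟨a, a', haa, ha, ha'⟩ := exists_two_norm S.hF₀
  have key : ∀ b : F₀, b * b ^ q₀ = -1 → (Pi.single i 1 + b • Pi.single j 1 : Fin n → F₀) ≠ 0 ∧
      hermForm n F₀ q₀ (Pi.single i 1 + b • Pi.single j 1) (Pi.single i 1 + b • Pi.single j 1) = 0 ∧
      hermForm n F q v (cv F₀ (Pi.single i 1 + b • Pi.single j 1)) = v i + (b : F) ^ q * v j := by
    intro b hb
    refine ⟨fun h0 => ?_, ?_, ?_⟩
    · have := congrFun h0 i
      simp [hij] at this
    · simp only [herm_add_left, herm_add_right S.hF₀, herm_smul_left, herm_smul_right,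
        herm_single_right S.hF₀, Pi.single_eq_same, one_pow]
      simp [hij, hij.symm]
      linear_combination hb
    · rw [cv_add, cv_smul, cv_single, cv_single, herm_add_right S.hF, herm_smul_right,
        herm_single_right S.hF, herm_single_right S.hF]
      simp
  by_cases h1 : v i + (a : F) ^ q * v j = 0
  · refine ⟨_, (key a' ha').1, (key a' ha').2.1, ?_⟩
    rw [(key a' ha').2.2]
    intro h2
    apply haa
    have h3 : ((a : F) ^ q - (a' : F) ^ q) * v j = 0 := by linear_combination h1 - h2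
    rcases mul_eq_zero.1 h3 with h4 | h4
    · rw [sub_eq_zero, pow_q_inj S.hF] at h4
      exact_mod_cast h4
    · exact absurd h4 hj
  · exact ⟨_, (key a ha).1, (key a ha).2.1, by rw [(key a ha).2.2]; exact h1⟩

include S hM

theorem AA_all (hn : 4 ≤ n) (hC : ∀ c, CC F₀ n q q₀ M c) {d : F} (hd : d + d ^ q = 0) : AA F₀ n q q₀ M d := by
  obtain ⟨t, ht⟩ := exists_trace_eq S.hF (c := 1) (one_pow _)
  have := (hC (d * t)).toAA S hM hn 1
  convert this using 1
  have : d ^ q = -d := by linear_combination hd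
  rw [OneMemClass.coe_one, mul_one, mul_pow, this]
  linear_combination -d * ht

/-- The full unipotent radical of a rational point. -/
theorem full_radical (hn : 4 ≤ n) (hC : ∀ c, CC F₀ n q q₀ M c) {p : Fin n → F₀} {i0 i1 : Fin n} (h01 : i0 ≠ i1)
    {a : F₀} (hp : p = Pi.single i0 1 + a • Pi.single i1 1) (hpp : hermForm n F₀ q₀ p p = 0)
    {w : Fin n → F} (hw : hermForm n F q w (cv F₀ p) = 0) : ∃ μ, HasS q M (cv F₀ p) w μ := by
  have hp0 : p ≠ 0 := by
    intro h0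
    rw [h0] at hp
    have := congrFun hp i0
    simp [h01] at this
  -- basis vectors
  have hbas : ∀ i, i ≠ i0 → i ≠ i1 → ∀ c : F, ∃ μ, HasS q M (cv F₀ p) (c • Pi.single i 1) μ := by
    intro i hi0 hi1 c
    obtain ⟨j, hj⟩ : ∃ j : Fin n, j ∉ ({i, i0, i1} : Finset (Fin n)) := by
      by_contra hcon
      push Not at hcon
      have h1 : (Finset.univ : Finset (Fin n)) ⊆ {i, i0, i1} := fun j _ => hcon j
      have h2 := Finset.card_le_card h1
      have h3 := Finset.card_le_three (a := i) (b := i0) (c := i1)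
      rw [Finset.card_univ, Fintype.card_fin] at h2
      omega
    simp only [Finset.mem_insert, Finset.mem_singleton, not_or] at hj
    obtain ⟨hji', hj0', hj1'⟩ := hj
    have hji : j ≠ i := hji'
    have hj0 : j ≠ i0 := hj0'
    have hj1 : j ≠ i1 := hj1'
    obtain ⟨x, x', hxx, hx, hx'⟩ := exists_two_norm S.hF₀
    have key : ∀ b : F₀, b * b ^ q₀ = -1 → 
        hermForm n F₀ q₀ (Pi.single j 1 + b • Pi.single i 1) (Pi.single j 1 + b • Pi.single i 1) = 0 ∧
        hermForm n F₀ q₀ (Pi.single j 1 + b • Pi.single i 1) p = 0 := by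
      intro b hb
      refine ⟨?_, ?_⟩
      · simp only [herm_add_left, herm_add_right S.hF₀, herm_smul_left, herm_smul_right,
          herm_single_right S.hF₀, Pi.single_eq_same, one_pow]
        simp [hji, hji.symm]
        linear_combination hb
      · rw [hp]
        simp only [herm_add_left, herm_add_right S.hF₀, herm_smul_left, herm_smul_right,
          herm_single_right S.hF₀, one_pow]
        simp [hj0.symm, hj1.symm, hi0.symm, hi1.symm]
    have hne : (x : F) - x' ≠ 0 := by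
      intro h0
      apply hxx
      rw [sub_eq_zero] at h0
      exact_mod_cast h0
    obtain ⟨μ, hμ⟩ := hC (c * ((x : F) - x')⁻¹) p _ hp0 hpp (key x hx).1 (key x hx).2
    obtain ⟨μ', hμ'⟩ := hC (-(c * ((x : F) - x')⁻¹)) p _ hp0 hpp (key x' hx').1 (key x' hx').2
    refine ⟨_, (hμ.mul S.hF hμ').congr ?_ rfl⟩
    rw [cv_add, cv_add, cv_smul, cv_smul, cv_single, cv_single]
    ext k
    simp only [Pi.add_apply, Pi.smul_apply, smul_eq_mul]
    field_simp
    ring
  have hsum : ∀ s : Finset (Fin n), i0 ∉ s → i1 ∉ s →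
      ∃ μ, HasS q M (cv F₀ p) (∑ i ∈ s, w i • (Pi.single i 1 : Fin n → F)) μ := by
    intro s
    induction s using Finset.induction_on with
    | empty =>
      intro _ _
      refine ⟨0, ?_⟩
      rw [Finset.sum_empty]
      exact AA_all S hM hn hC (by rw [zero_pow_q S.hF, add_zero]) p hp0 hpp
    | insert i s his ih =>
      intro h0 h1
      rw [Finset.mem_insert, not_or] at h0 h1
      obtain ⟨μ, hμ⟩ := ih h0.2 h1.2
      obtain ⟨μ', hμ'⟩ := hbas i (Ne.symm h0.1) (Ne.symm h1.1) (w i)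
      rw [Finset.sum_insert his]
      exact ⟨_, hμ'.mul S.hF hμ⟩
  obtain ⟨μ, hμ⟩ := hsum (Finset.univ \ {i0, i1}) (by simp) (by simp)
  refine ⟨_, (hμ.unshift S.hF (w i0)).congr ?_ rfl⟩
  have haa : (a : F) * (a : F) ^ q = -1 := by
    rw [hp] at hpp
    simp only [herm_add_left, herm_add_right S.hF₀, herm_smul_left, herm_smul_right,
          herm_single_right S.hF₀, Pi.single_eq_same, one_pow] at hpp
    simp [h01, h01.symm] at hpp
    have h1 : a * a ^ q₀ = -1 := by linear_combination hpp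
    have h2 := congrArg (fun z : F₀ => (z : F)) h1
    push_cast at h2
    rw [S.pow_eq]
    push_cast
    exact h2
  have hw' : w i0 + (a : F) ^ q * w i1 = 0 := by
    rw [hp, cv_add, cv_smul, cv_single, cv_single, herm_add_right S.hF, herm_smul_right,
      herm_single_right S.hF, herm_single_right S.hF] at hw
    simpa using hw
  have hw1 : w i1 = w i0 * a := by linear_combination (-(a : F)) * hw' + w i1 * haa
  rw [hp, cv_add, cv_smul, cv_single, cv_single]
  ext k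
  rw [Pi.add_apply, Finset.sum_apply]
  simp only [Pi.smul_apply, Pi.add_apply, smul_eq_mul, Pi.single_apply, mul_ite, mul_one, mul_zero]
  rw [Finset.sum_ite_eq]
  by_cases hk0 : k = i0
  · subst hk0
    simp [h01]
  · by_cases hk1 : k = i1
    · subst hk1
      simp [hk0, hw1]
    · simp [hk0, hk1]

/-- All parameters: `M` contains `SU_n(q)`. -/
theorem SUg_le_of_all (hn : 4 ≤ n) (hC : ∀ c, CC F₀ n q q₀ M c) : SUg n F q ≤ M := by
  apply SUg_le_of_TT S.hF (by omega)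
  intro v hv
  by_cases hv0 : v = 0
  · subst hv0
    exact ⟨hv, fun c _ => ⟨1, M.one_mem, fun x => by simp⟩⟩
  have h01 : (⟨0, by omega⟩ : Fin n) ≠ ⟨1, by omega⟩ := by simp
  obtain ⟨p, p', a, b, ha, hp, hp', hpp, hpp', hppp⟩ := exists_hyp_pair (q := q₀) (n := n) S.hF₀ h01
  have hp0 : p ≠ 0 := by
    rintro rfl
    rw [herm_zero_left] at hppp
    exact zero_ne_one hppp
  have hp0' : p' ≠ 0 := by
    rintro rfl
    rw [herm_zero_right S.hF₀] at hppp
    exact zero_ne_one hppp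
  obtain ⟨u, hu0, huu, hvu⟩ := exists_rat_ne S (by omega) hv0
  obtain ⟨t, ht, htu, htp, -⟩ := exists_move S hM (by omega) hp0 hu0 hpp huu
  -- pull back
  set v₁ := ((t⁻¹ : GL (Fin n) F) : Matrix (Fin n) (Fin n) F) *ᵥ v with hv₁
  have htv : (t : Matrix (Fin n) (Fin n) F) *ᵥ v₁ = v := by rw [hv₁, mulVec_inv]
  have hv₁v₁ : hermForm n F q v₁ v₁ = 0 := by rw [← htu, htv, hv]
  have hv₁p : hermForm n F q v₁ (cv F₀ p) ≠ 0 := by rw [← htu, htv, htp]; exact hvu
  suffices h : TT q M v₁ by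
    have := h.conj ht htu
    rwa [htv] at this
  clear_value v₁
  suffices h : ∀ v₂, hermForm n F q v₂ v₂ = 0 → hermForm n F q v₂ (cv F₀ p) = 1 → TT q M v₂ by
    apply TT.of_smul S.hF (inv_ne_zero hv₁p)
    apply h
    · rw [herm_smul_left, herm_smul_right, hv₁v₁, mul_zero, mul_zero]
    · rw [herm_smul_left, inv_mul_cancel₀ hv₁p]
  intro v₂ hv₂ hv₂p
  have hP' : hermForm n F q (cv F₀ p') (cv F₀ p') = 0 := herm_cv_eq_zero S hpp'
  have hP : hermForm n F q (cv F₀ p) (cv F₀ p) = 0 := herm_cv_eq_zero S hpp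
  have hPP' : hermForm n F q (cv F₀ p) (cv F₀ p') = 1 := by rw [herm_cv S, hppp]; rfl
  have hP'P : hermForm n F q (cv F₀ p') (cv F₀ p) = 1 := by rw [herm_swap S.hF (cv F₀ p) (cv F₀ p'), hPP', one_pow]
  have hw : hermForm n F q (v₂ - cv F₀ p') (cv F₀ p) = 0 := by
    rw [herm_sub_left, hv₂p, hP'P, sub_self]
  obtain ⟨μ, hμ⟩ := full_radical S hM hn hC h01 hp hpp hw
  -- correct the parameter
  have htr : (hermForm n F q (cv F₀ p') v₂) + (hermForm n F q (cv F₀ p') v₂) ^ q =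
      -hermForm n F q (v₂ - cv F₀ p') (v₂ - cv F₀ p') := by
    rw [← herm_swap S.hF, herm_sub_left, herm_sub_right S.hF, herm_sub_right S.hF, hv₂, hP']
    ring
  have hμ' := hμ.1.tr
  have hd : AA F₀ n q q₀ M (hermForm n F q (cv F₀ p') v₂ - μ) := by
    apply AA_all S hM hn hC
    rw [sub_pow_q S.hF]
    linear_combination htr - hμ'
  have h1 := hμ.add_tv S.hF (hd p hp0 hpp)
  obtain ⟨h0, g, hg, hgx⟩ := h1.congr rfl (show μ + (hermForm n F q (cv F₀ p') v₂ - μ) = hermForm n F q (cv F₀ p') v₂ by ring)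
  have hgu : ∀ x y, hermForm n F q ((g : Matrix (Fin n) (Fin n) F) *ᵥ x) ((g : Matrix (Fin n) (Fin n) F) *ᵥ y) =
      hermForm n F q x y := by
    have hge : g = suHom n F q (siegel S.hF _ _ _ h0) := by
      apply gl_ext
      intro y
      rw [hgx, coe_suHom]
      exact (siegelMat_mulVec _ _ _ y).symm
    rw [hge]
    exact (suHom_mem (siegel S.hF _ _ _ h0)).1
  have hgp : (g : Matrix (Fin n) (Fin n) F) *ᵥ cv F₀ p' = v₂ := by
    rw [hgx, hP'P, herm_sub_right S.hF, hP']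
    ext k
    simp
  have h2 : TT q M (cv F₀ p') := by
    rw [TT_iff_hasS S.hF]
    exact ⟨hP', fun d hd => AA_all S hM hn hC hd p' hp0' hpp'⟩
  have h3 := h2.conj hg hgu
  rwa [hgp] at h3

end secC

section secD



variable {F : Type*} [Field F] [Fintype F] {n q : ℕ} {F₀ : Subfield F} [Fintype F₀] {q₀ : ℕ}
variable (S : Setup F₀ q q₀)

include S in
theorem pow_mem {x : F} (h : x ∈ F₀) : x ^ q ∈ F₀ := F₀.pow_mem h q

include S in
theorem mem_of_pow_mem {x : F} (h : x ^ q ∈ F₀) : x ∈ F₀ := by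
  have := F₀.pow_mem h q
  rwa [pow_q_pow_q S.hF] at this

include S in
theorem mem_of_forall {c : F} (h : ∀ s : F₀, c * s - (c * s) ^ q ∈ F₀) : c ∈ F₀ := by
  obtain ⟨ω, hω⟩ := exists_moved S
  have h1 := h 1
  have h2 := h ω
  have hne : ((ω ^ q₀ - ω : F₀) : F) ≠ 0 := by
    intro h0
    apply hω
    have : (ω ^ q₀ - ω : F₀) = 0 := by exact_mod_cast h0
    exact sub_eq_zero.1 this
  have h3 : ((ω ^ q₀ : F₀) : F) * (c * ((1 : F₀) : F) - (c * ((1 : F₀) : F)) ^ q) - (c * (ω : F) - (c * (ω : F)) ^ q) ∈ F₀ :=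
    F₀.sub_mem (F₀.mul_mem (ω ^ q₀).2 h1) h2
  have h4 : ((ω ^ q₀ : F₀) : F) * (c * ((1 : F₀) : F) - (c * ((1 : F₀) : F)) ^ q) - (c * (ω : F) - (c * (ω : F)) ^ q) =
      c * ((ω ^ q₀ - ω : F₀) : F) := by
    rw [mul_pow, mul_pow, S.pow_eq, S.pow_eq]
    push_cast
    ring
  rw [h4] at h3
  have h5 := F₀.div_mem h3 (ω ^ q₀ - ω).2
  rwa [mul_div_cancel_right₀ _ hne] at h5

variable {M : Subgroup (GL (Fin n) F)} (hM : ∀ (u w : Fin n → F₀) (μ : F₀), IsSiegel q₀ u w μ → HasS q M (cv F₀ u) (cv F₀ w) (μ : F))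

include S hM

/-- Rational Siegel transformations with suitable parameter. -/
theorem hasS_rat' {u w : Fin n → F₀} (hu : hermForm n F₀ q₀ u u = 0) (hw : hermForm n F₀ q₀ w u = 0) :
    ∃ μ : F₀, HasS q M (cv F₀ u) (cv F₀ w) (μ : F) := by
  obtain ⟨μ, hμ⟩ := exists_trace_eq S.hF₀ (c := -hermForm n F₀ q₀ w w) (by rw [neg_pow_q S.hF₀, herm_self_pow S.hF₀])
  exact ⟨μ, hasS_rat S hM ⟨hu, hw, by rw [hμ, neg_add_cancel]⟩⟩

theorem ratA (hn : 4 ≤ n) (hB : ∀ c, CC F₀ n q q₀ M c → c ∈ F₀) {u : Fin n → F₀} (h0 : u ≠ 0)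
    (hu : hermForm n F₀ q₀ u u = 0) {d : F} (h : HasS q M (cv F₀ u) 0 d) : d ∈ F₀ := by
  have h1 := AA_of S hM (by omega) h0 hu h
  have h2 := h1.mulCC S hM (CC_rat S hM 1)
  have := hB _ h2
  simpa using this

/-- A transvection of `M` whose centre is orthogonal to the rational isotropic vector `p`. -/
theorem rat_of_orth_p (hn : 4 ≤ n) (hB : ∀ c, CC F₀ n q q₀ M c → c ∈ F₀) {p : Fin n → F₀} {i0 i1 : Fin n}
    (h01 : i0 ≠ i1) {a : F₀} (hp : p = Pi.single i0 1 + a • Pi.single i1 1) (hpp : hermForm n F₀ q₀ p p = 0)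
    {v : Fin n → F} {d : F} (hd : d ≠ 0) (h : HasS q M v 0 d)
    (hvp : hermForm n F q v (cv F₀ p) = 0) : ∃ (l : F) (b : Fin n → F₀), v = l • cv F₀ b := by
  have hp0 : p ≠ 0 := by
    intro h0
    rw [h0] at hp
    have := congrFun hp i0
    simp [h01] at this
  have haa : (a : F) * (a : F) ^ q = -1 := by
    rw [hp] at hpp
    simp only [herm_add_left, herm_add_right S.hF₀, herm_smul_left, herm_smul_right,
          herm_single_right S.hF₀, Pi.single_eq_same, one_pow] at hpp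
    simp [h01, h01.symm] at hpp
    have h1 : a * a ^ q₀ = -1 := by linear_combination hpp
    have h2 := congrArg (fun z : F₀ => (z : F)) h1
    push_cast at h2
    rw [S.pow_eq]
    push_cast
    exact h2
  -- form of vectors orthogonal to p
  have hform : ∀ y : Fin n → F, hermForm n F q y (cv F₀ p) = 0 → y i1 = y i0 * a := by
    intro y hy
    have hw' : y i0 + (a : F) ^ q * y i1 = 0 := by
      rw [hp, cv_add, cv_smul, cv_single, cv_single, herm_add_right S.hF, herm_smul_right,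
        herm_single_right S.hF, herm_single_right S.hF] at hy
      simpa using hy
    linear_combination (-(a : F)) * hw' + y i1 * haa
  have heP : ∀ k, k ≠ i0 → k ≠ i1 → hermForm n F₀ q₀ (Pi.single k 1) p = 0 := by
    intro k hk0 hk1
    rw [hp]
    simp only [herm_add_left, herm_add_right S.hF₀, herm_smul_left, herm_smul_right,
      herm_single_right S.hF₀, one_pow]
    simp [hk0, hk1, hk0.symm, hk1.symm]
  -- the main relation
  have hrel : ∀ j k, j ≠ i0 → j ≠ i1 → k ≠ i0 → k ≠ i1 → d * (v j) ^ q * v k ∈ F₀ := by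
    intro j k hj0 hj1 hk0 hk1
    apply mem_of_forall S
    intro s
    obtain ⟨μ, hμ⟩ := hasS_rat' S hM hpp (heP j hj0 hj1)
    have h1 := hμ.act S.hF h hvp
    obtain ⟨μ', hμ'⟩ := hasS_rat' S hM (w := s ^ q₀ • (Pi.single k 1 : Fin n → F₀)) hpp
      (by rw [herm_smul_left, heP k hk0 hk1, mul_zero])
    have h2 := h1.comm S.hF hμ'
    have h3 := ratA S hM hn hB hp0 hpp h2
    convert h3 using 1
    rw [cv_smul, cv_single, cv_single, herm_smul_left, herm_smul_right, herm_smul_left, herm_smul_right,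
      herm_single_left, herm_single_left, herm_single_right S.hF, S.pow_eq]
    simp only [one_mul, one_pow, mul_one, mul_pow, pow_q_pow_q S.hF, pow_q_pow_q S.hF₀, S.pow_eq]
    push_cast
    ring
  by_cases hall : ∀ k, k ≠ i0 → k ≠ i1 → v k = 0
  · refine ⟨v i0, p, ?_⟩
    rw [hp, cv_add, cv_smul, cv_single, cv_single]
    ext k
    simp only [Pi.smul_apply, Pi.add_apply, smul_eq_mul]
    by_cases hk0 : k = i0
    · subst hk0
      simp [h01]
    · by_cases hk1 : k = i1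
      · subst hk1
        simp [hk0, hform v hvp]
      · simp [hk0, hk1, hall k hk0 hk1]
  push Not at hall
  obtain ⟨k, hk0, hk1, hvk⟩ := hall
  -- normalise
  have hvk' : v k ^ q ≠ 0 := pow_ne_zero _ hvk
  obtain ⟨v₁, hv₁⟩ : ∃ v₁ : Fin n → F, v = v k • v₁ :=
    ⟨(v k)⁻¹ • v, by rw [smul_smul, mul_inv_cancel₀ hvk, one_smul]⟩
  have hv₁j : ∀ j, v j = v k * v₁ j := fun j => congrFun hv₁ j
  have hv₁k : v₁ k = 1 := by
    have := hv₁j k
    exact (mul_right_eq_self₀.1 this.symm).resolve_right hvk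
  obtain ⟨d₁, hd₁⟩ : ∃ d₁ : F₀, (d₁ : F) = v k * v k ^ q * d := by
    have := hrel k k hk0 hk1 hk0 hk1
    exact ⟨⟨_, this⟩, by ring⟩
  have hd₁0 : (d₁ : F) ≠ 0 := by
    rw [hd₁]
    exact mul_ne_zero (mul_ne_zero hvk hvk') hd
  have h1 : HasS q M v₁ 0 (d₁ : F) := by
    have h' : HasS q M (v k • v₁) 0 d := by rw [← hv₁]; exact h
    exact (h'.smul_center S.hF hvk).congr (smul_zero _) hd₁.symm
  have hrat : ∀ j, j ≠ i0 → j ≠ i1 → v₁ j ∈ F₀ := by
    intro j hj0 hj1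
    have h2 := F₀.div_mem (hrel k j hk0 hk1 hj0 hj1) d₁.2
    have h3 : d * v k ^ q * v j / (d₁ : F) = v₁ j := by
      rw [hd₁, hv₁j j]
      field_simp
    rwa [h3] at h2
  have hv₁p : hermForm n F q v₁ (cv F₀ p) = 0 := by
    rw [hv₁, herm_smul_left] at hvp
    exact (mul_eq_zero.1 hvp).resolve_left hvk
  -- the rational part
  set v₀ : Fin n → F₀ := fun j => if hj : j ≠ i0 ∧ j ≠ i1 then ⟨v₁ j, hrat j hj.1 hj.2⟩ else 0 with hv₀
  have hdec : v₁ = cv F₀ v₀ + v₁ i0 • cv F₀ p := by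
    rw [hp, cv_add, cv_smul, cv_single, cv_single]
    ext j
    simp only [Pi.smul_apply, Pi.add_apply, smul_eq_mul, cv_apply, hv₀]
    by_cases hj0 : j = i0
    · subst hj0
      simp [h01]
    · by_cases hj1 : j = i1
      · subst hj1
        simp [hj0, hform v₁ hv₁p]
      · simp [hj0, hj1]
  have hPP : hermForm n F q (cv F₀ p) (cv F₀ p) = 0 := herm_cv_eq_zero S hpp
  have hv₀p : hermForm n F₀ q₀ v₀ p = 0 := by
    have h2 := hv₁p
    rw [hdec, herm_add_left, herm_smul_left, hPP, mul_zero, add_zero, herm_cv S] at h2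
    exact_mod_cast h2
  have hv₀v₀ : hermForm n F₀ q₀ v₀ v₀ = 0 := by
    have h2 := h1.1.iso
    have h3 : hermForm n F q (cv F₀ v₀) (cv F₀ p) = 0 := herm_cv_eq_zero S hv₀p
    have h4 := herm_eq_zero_swap S.hF h3
    rw [hdec, herm_add_left, herm_add_right S.hF, herm_add_right S.hF, herm_smul_left, herm_smul_left,
      herm_smul_right, herm_smul_right, hPP, h3, h4, mul_zero, mul_zero, add_zero, add_zero,
      add_zero, herm_cv S] at h2
    exact_mod_cast h2
  -- rationality of the coefficient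
  have hμ₀ : (d₁ : F) * v₁ i0 ∈ F₀ := by
    apply mem_of_forall S
    intro s
    obtain ⟨μ, hμ⟩ := hasS_rat' S hM (w := s • (Pi.single k 1 : Fin n → F₀)) hpp
      (by rw [herm_smul_left, heP k hk0 hk1, mul_zero])
    have h2 := hμ.act S.hF h1 hv₁p
    have h3 : hermForm n F q (cv F₀ (s • Pi.single k 1)) v₁ = s := by
      rw [cv_smul, cv_single, herm_smul_left, herm_single_left, hv₁k, one_pow, mul_one, mul_one]
    rw [h3] at h2
    have h4 : ((d₁ : F) * (s : F)) • v₁ = cv F₀ ((d₁ * s) • v₀) + ((d₁ : F) * (s : F) * v₁ i0) • cv F₀ p := by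
      conv_lhs => rw [hdec]
      rw [cv_smul, smul_add, smul_smul]
      push_cast
      rfl
    have h5 := (h2.congr h4 rfl).shift S.hF
    have h6 := hasS_rat S hM (u := p) (w := (d₁ * s) • v₀) (μ := 0) ⟨hpp, by
      rw [herm_smul_left, hv₀p, mul_zero], by
      rw [herm_smul_left, herm_smul_right, hv₀v₀, zero_pow_q S.hF₀]; simp⟩
    have h7 := ratA S hM hn hB hp0 hpp (h5.cancel S.hF h6)
    have h8 : ((d₁ : F) * (s : F)) ^ q * (s : F) ∈ F₀ :=
      F₀.mul_mem (F₀.pow_mem (F₀.mul_mem d₁.2 s.2) q) s.2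
    have h9 := F₀.sub_mem h7 h8
    convert h9 using 1
    push_cast
    ring
  have hμ₁ : v₁ i0 ∈ F₀ := by
    have := F₀.div_mem hμ₀ d₁.2
    rwa [mul_div_cancel_left₀ _ hd₁0] at this
  refine ⟨v k, v₀ + (⟨v₁ i0, hμ₁⟩ : F₀) • p, ?_⟩
  rw [cv_add, cv_smul]
  change v = v k • (cv F₀ v₀ + v₁ i0 • cv F₀ p)
  rw [← hdec, ← hv₁]

/-- A transvection of `M` whose centre is orthogonal to a rational isotropic vector has rational centre. -/
theorem rat_of_orth (hn : 4 ≤ n) (hB : ∀ c, CC F₀ n q q₀ M c → c ∈ F₀) {v : Fin n → F} {d : F} (hd : d ≠ 0)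
    (h : HasS q M v 0 d) {w : Fin n → F₀} (hw0 : w ≠ 0) (hw : hermForm n F₀ q₀ w w = 0)
    (hvw : hermForm n F q v (cv F₀ w) = 0) : ∃ (l : F) (b : Fin n → F₀), v = l • cv F₀ b := by
  have h01 : (⟨0, by omega⟩ : Fin n) ≠ ⟨1, by omega⟩ := by simp
  obtain ⟨p, p', a, b, ha, hp, hp', hpp, hpp', hppp⟩ := exists_hyp_pair (q := q₀) (n := n) S.hF₀ h01
  have hp0 : p ≠ 0 := by
    rintro rfl
    rw [herm_zero_left] at hppp
    exact zero_ne_one hppp
  obtain ⟨t, ht, htu, htp, htr⟩ := exists_move S hM (by omega) hp0 hw0 hpp hw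
  set v₁ := ((t⁻¹ : GL (Fin n) F) : Matrix (Fin n) (Fin n) F) *ᵥ v with hv₁
  have htv : (t : Matrix (Fin n) (Fin n) F) *ᵥ v₁ = v := by rw [hv₁, mulVec_inv]
  have htu' : ∀ x y, hermForm n F q (((t⁻¹ : GL (Fin n) F) : Matrix (Fin n) (Fin n) F) *ᵥ x)
      (((t⁻¹ : GL (Fin n) F) : Matrix (Fin n) (Fin n) F) *ᵥ y) = hermForm n F q x y := by
    intro x y
    rw [← htu, mulVec_inv, mulVec_inv]
  have h1 := h.conj (M.inv_mem ht) htu'
  rw [Matrix.mulVec_zero] at h1
  obtain ⟨l, b, hb⟩ := rat_of_orth_p S hM hn hB h01 hp hpp hd h1 (by rw [← htu, mulVec_inv, htp]; exact hvw)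
  obtain ⟨y, hy⟩ := htr b
  refine ⟨l, y, ?_⟩
  rw [← htv, hv₁, hb, Matrix.mulVec_smul, hy]

end secD

end Cfsg.Agent.H972.GUS
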