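import Cfsg.Agent.H972.GUS.Two
import Cfsg.Agent.H907.MxRow5b

/-!
# Overgroups of `SU_3(q₀)` in `SU_3(q)` (helper972)

`q = q₀ ^ r`, `r` an odd prime: a proper subgroup of `SU_3(q)` containing `SU_3(q₀)` is in the subfield group. (The theorem
`H907.Mx.row5` is about the subgroups containing the full subfield group; when `r = 3` divides `q₀ + 1` it is larger.)
-/

set_option autoImplicit false
set_option linter.unusedSectionVars false
set_option linter.unusedSimpArgs false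

namespace Cfsg.Agent.H972.GUS

open Cfsg Cfsg.Geo Matrix Cfsg.Agent.H907 Cfsg.Agent.H918 Cfsg.Agent.H907.SU3 Cfsg.Agent.LieClassical.HermBasic
open Cfsg.Agent.LieClassical.HermSiegel Cfsg.Agent.H873.Sub Cfsg.Agent.H930
open Cfsg.Agent.H914 Cfsg.Agent.H930.GUSub Cfsg.Agent.H907.Mx
open scoped MatrixGroups commutatorElement

variable {F : Type*} [Field F] [Fintype F] {q : ℕ}

/-- **The maximal subgroups of `SU_3(q)` containing a given subgroup**, `q` not prime. -/
theorem le_of_cases (hF : Fintype.card F = q ^ 2) (hq : 3 ≤ q) (hnp : ¬ q.Prime)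
    {B D : Subgroup (GL (Fin 3) F)}
    (h12 : ∀ W : Submodule F (Fin 3 → F), W ≠ ⊥ → W ≠ ⊤ → ¬ B ≤ subspaceStabilizer W)
    (h3 : ∀ P ∈ Cfsg.GU 3 F q, ¬ B ≤ decompositionStabilizer (frm P))
    (h4 : ∀ K : Subalgebra F (Matrix (Fin 3) (Fin 3) F), IsFieldSubalgebra 3 K →
      IsAdjointClosedFor (hermForm 3 F q) K → q ≠ 3 → ¬ B ≤ subalgebraNormalizer K)
    (h5 : ∀ (F₁ : Subfield F) (r : ℕ) (P : GL (Fin 3) F), r.Prime → Odd r → Fintype.card F = Nat.card F₁ ^ r →
      IsFormRationalStructure (hermForm 3 F q) F₁ 1 P → B ≤ subfieldSubgroup F₁ P →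
      subfieldSubgroup F₁ P ⊓ SUg 3 F q ≤ D)
    (h6 : Odd q → 7 ≤ q → ∀ (F₁ : Subfield F) (P : GL (Fin 3) F), Fintype.card F = Nat.card F₁ ^ 2 →
      P ∈ Cfsg.GU 3 F q → ¬ B ≤ subfieldSubgroup F₁ P) {M : Subgroup (GL (Fin 3) F)}
    (hM : IsMaximalIn (SUg 3 F q) M) (hBM : B ≤ M) : M ≤ D := by
  have hMS : M ≤ SUg 3 F q := hM.1.le
  rcases su3_cases q hF hq M hM with h | h | h | h | h | h | h | h
  · obtain ⟨W, hW0, hW, rfl⟩ := h
    exact absurd (hBM.trans inf_le_left) (h12 W hW0 (ne_top_of_sing hF hW))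
  · obtain ⟨W, hW0, -, hW, rfl⟩ := h
    exact absurd (hBM.trans inf_le_left) (h12 W hW0 (ne_top_of_finrank hW))
  · obtain ⟨-, D, hD, rfl⟩ := h
    obtain ⟨P, hP, hPD⟩ := exists_frame hF hD
    have hDf : D = frm P := funext hPD
    subst hDf
    exact absurd (hBM.trans inf_le_left) (h3 P hP)
  · obtain ⟨hq3, -, K, hK, hadj, rfl⟩ := h
    exact absurd (hBM.trans inf_le_left) (h4 K hK hadj hq3)
  · obtain ⟨F₁, r, P, hr, hodd, hc, hP, rfl⟩ := h
    exact h5 F₁ r P hr hodd hc hP (hBM.trans inf_le_left)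
  · obtain ⟨hodd, h7q, F₁, P, hc, hP, rfl⟩ := h
    have h2 : (2 : F) ≠ 0 := by
      intro h0
      have h1 : ringChar F = 2 := by
        have := (CharP.cast_eq_zero_iff F (ringChar F) 2).1 (by exact_mod_cast h0)
        rcases (Nat.dvd_prime Nat.prime_two).1 this with h | h
        · exact absurd h (CharP.ringChar_ne_one)
        · exact h
      have h3 := FiniteField.even_card_of_char_two h1
      rw [hF] at h3
      have h4 := Nat.odd_iff.1 (hodd.pow (n := 2))
      omega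
    obtain ⟨P', hP', he⟩ := exists_real_frame hF hc h2 hP
    rw [he] at hBM
    exact absurd (hBM.trans inf_le_left) (h6 hodd h7q F₁ P' hc hP')
  · obtain ⟨p, R, hp, rfl, -⟩ := h
    exact absurd hp hnp
  · obtain ⟨P, hP, hprime, -⟩ := Cfsg.Agent.S5779.result q hF hq M hM h
    exact absurd hprime hnp

variable {F₀ : Subfield F} [Fintype F₀] {q₀ : ℕ}

theorem siegelMat_map {n : ℕ} (S : Setup F₀ q q₀) (u w : Fin n → F₀) (μ : F₀) :
    (siegelMat q₀ u w μ).map F₀.subtype = siegelMat q (cv F₀ u) (cv F₀ w) (μ : F) := by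
  ext i j
  have h1 : ∀ x : F₀, F₀.subtype (x ^ q₀) = (x : F) ^ q := fun x => (S.pow_eq x).symm
  have h2 : ∀ x : F₀, F₀.subtype x = (x : F) := fun x => rfl
  have h3 : ∀ x : F₀, (x : F) ^ q = (x : F) ^ q₀ := fun x => by rw [S.pow_eq]; push_cast; rfl
  simp only [siegelMat, Matrix.map_apply, Matrix.add_apply, vecMulVec_apply, Matrix.one_apply, map_add, map_mul, map_sub,
    cv_apply, h1, h2]
  split_ifs <;> simp [h3]

/-- a transvection rational up to a scalar has a rational centre up to a scalar -/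
theorem rat_of_tv {w : Fin 3 → F} (hw0 : w ≠ 0) (hw : hermForm 3 F q w w = 0) {κ : F₀} (hκ : κ ≠ 0)
    {X : Matrix (Fin 3) (Fin 3) F} (hX : ∀ y, X *ᵥ y = y + ((κ : F) * hermForm 3 F q y w) • w)
    {d : F} (hd : d ≠ 0) (h : ∀ i j, d * X i j ∈ F₀) : ∃ (l : F) (v : Fin 3 → F₀), w = l • cv F₀ v := by
  have hκ' : (κ : F) ≠ 0 := by exact_mod_cast hκ
  have hXij : ∀ i j, X i j = (1 : Matrix (Fin 3) (Fin 3) F) i j + κ * (w i * w j ^ q) := by
    intro i j
    have h1 := congrFun (hX (Pi.single j 1)) i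
    rw [mulVec_single_one, Pi.add_apply, Pi.smul_apply, smul_eq_mul, herm_single_left, one_mul] at h1
    have h2 : X i j = (Pi.single j (1 : F) : Fin 3 → F) i + κ * w j ^ q * w i := h1
    rw [h2, Matrix.one_apply, Pi.single_apply]
    ring
  -- the trace
  have h3d : 3 * d ∈ F₀ := by
    have h1 : d * X 0 0 + d * X 1 1 + d * X 2 2 = 3 * d := by
      rw [hXij, hXij, hXij, Matrix.one_apply_eq, Matrix.one_apply_eq, Matrix.one_apply_eq]
      have h2 := hw
      rw [herm_def, Fin.sum_univ_three] at h2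
      linear_combination (d * κ) * h2
    rw [← h1]
    exact F₀.add_mem (F₀.add_mem (h _ _) (h _ _)) (h _ _)
  -- an entry outside the diagonal
  obtain ⟨i, j, hij, hi, hj⟩ : ∃ i j, i ≠ j ∧ w i ≠ 0 ∧ w j ≠ 0 := by
    obtain ⟨i, hi⟩ : ∃ i, w i ≠ 0 := by
      by_contra hcon
      push Not at hcon
      exact hw0 (funext hcon)
    by_contra hcon
    push Not at hcon
    have h1 : ∀ j, j ≠ i → w j = 0 := fun j hj => hcon i j hj.symm hi
    have h2 := hw
    rw [herm_def, Finset.sum_eq_single i (fun j _ hj => by rw [h1 j hj, zero_mul])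
      (fun h => absurd (Finset.mem_univ i) h)] at h2
    exact mul_ne_zero hi (pow_ne_zero q hi) h2
  have h2d : 2 * d ∈ F₀ := by
    have h1 : (X * X) i j = 2 * X i j := by
      have h2 : X *ᵥ (X *ᵥ (Pi.single j 1 : Fin 3 → F)) = (2 : F) • (X *ᵥ Pi.single j 1) - Pi.single j 1 := by
        rw [hX (X *ᵥ (Pi.single j 1 : Fin 3 → F)), hX (Pi.single j 1), herm_add_left, herm_smul_left, hw]
        module
      rw [mulVec_mulVec, mulVec_single_one, mulVec_single_one] at h2
      have h3 := congrFun h2 i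
      rw [Pi.sub_apply, Pi.smul_apply, smul_eq_mul, Pi.single_eq_of_ne hij, sub_zero] at h3
      exact h3
    have h2 : d * X i j ≠ 0 := by
      rw [hXij, Matrix.one_apply_ne hij, zero_add]
      exact mul_ne_zero hd (mul_ne_zero hκ' (mul_ne_zero hi (pow_ne_zero q hj)))
    have h3 : ∑ k, (d * X i k) * (d * X k j) = 2 * d * (d * X i j) := by
      have h4 : ∑ k, (d * X i k) * (d * X k j) = d * d * (X * X) i j := by
        rw [Matrix.mul_apply, Finset.mul_sum]
        exact Finset.sum_congr rfl fun k _ => by ring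
      rw [h4, h1]
      ring
    have h4 : 2 * d = (∑ k, (d * X i k) * (d * X k j)) / (d * X i j) := by
      rw [h3, mul_div_cancel_right₀ _ h2]
    rw [h4]
    exact F₀.div_mem (F₀.sum_mem fun k _ => F₀.mul_mem (h _ _) (h _ _)) (h _ _)
  have hdF : d ∈ F₀ := by
    have h1 := F₀.sub_mem h3d h2d
    rwa [show 3 * d - 2 * d = d by ring] at h1
  have hww : ∀ a b, w a * w b ^ q ∈ F₀ := by
    intro a b
    have h1 : X a b ∈ F₀ := by
      have h2 := F₀.div_mem (h a b) hdF
      rwa [mul_div_cancel_left₀ _ hd] at h2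
    have h2 : (1 : Matrix (Fin 3) (Fin 3) F) a b ∈ F₀ := by
      rw [Matrix.one_apply]
      split_ifs
      · exact F₀.one_mem
      · exact F₀.zero_mem
    have h3 : w a * w b ^ q = (X a b - (1 : Matrix (Fin 3) (Fin 3) F) a b) / κ := by
      rw [hXij]
      field_simp
      ring
    rw [h3]
    exact F₀.div_mem (F₀.sub_mem h1 h2) κ.2
  refine ⟨(w j ^ q)⁻¹, fun a => ⟨w a * w j ^ q, hww a j⟩, ?_⟩
  funext a
  rw [Pi.smul_apply, smul_eq_mul, cv_apply]
  have := pow_ne_zero q hj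
  field_simp

/-- the subfield groups of the same type -/
theorem same_of_rat (S : Setup F₀ q q₀) {A : Subgroup (GL (Fin 3) F)} {P : GL (Fin 3) F} (hP : P ∈ Cfsg.GU 3 F q)
    (h : A = (subfieldSubgroup F₀ (1 : GL (Fin 3) F)).map (MulAut.conj P).toMonoidHom)
    (hle : (SUg 3 F₀ q₀).map (ext F₀) ≤ A) : A ⊓ SUg 3 F q ≤ subfieldSubgroup F₀ (1 : GL (Fin 3) F) := by
  have hP' : ∀ x y, hermForm 3 F q ((P : Matrix (Fin 3) (Fin 3) F) *ᵥ x) ((P : Matrix (Fin 3) (Fin 3) F) *ᵥ y) =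
    hermForm 3 F q x y := hP
  have hPi : P⁻¹ ∈ subfieldSubgroup F₀ (1 : GL (Fin 3) F) := by
    rw [H930.mem_subfieldSubgroup_iff, inv_one, one_mul, mul_one]
    apply mem_of_iso_lines S (by norm_num)
    intro u hu0 hu
    obtain ⟨κ, hκ0, hκ⟩ := exists_trace_zero_ne S.hF₀
    have hs : IsSiegel q₀ u (0 : Fin 3 → F₀) κ := ⟨hu, herm_zero_left _, by rw [herm_zero_left, add_zero]; exact hκ⟩
    have h1 := hle ⟨_, suHom_mem (siegel S.hF₀ u 0 κ hs), rfl⟩
    rw [h] at h1
    obtain ⟨x, hx, hxe⟩ := h1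
    have hxe' : P * x * P⁻¹ = ext F₀ (suHom 3 F₀ q₀ (siegel S.hF₀ u 0 κ hs)) := hxe
    obtain ⟨w, hw⟩ : ∃ w, w = ((P⁻¹ : GL (Fin 3) F) : Matrix (Fin 3) (Fin 3) F) *ᵥ cv F₀ u := ⟨_, rfl⟩
    have hPw : (P : Matrix (Fin 3) (Fin 3) F) *ᵥ w = cv F₀ u := by rw [hw, mulVec_inv]
    have hw0 : w ≠ 0 := by
      rintro rfl
      rw [mulVec_zero] at hPw
      exact GUS.cv_ne_zero S hu0 hPw.symm
    have hww : hermForm 3 F q w w = 0 := by
      rw [← hP' w w, hPw]
      exact herm_cv_eq_zero S hu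
    obtain ⟨d, hd, hdx⟩ := H930.mem_subfieldSubgroup_iff.1 hx
    rw [inv_one, one_mul, mul_one] at hdx
    obtain ⟨l, v, hlv⟩ := rat_of_tv (κ := κ) hw0 hww hκ0 (X := (x : Matrix (Fin 3) (Fin 3) F)) (fun y => by
      have h2 : x = P⁻¹ * ext F₀ (suHom 3 F₀ q₀ (siegel S.hF₀ u 0 κ hs)) * P := by rw [← hxe']; group
      have h3 : ∀ z : Fin 3 → F, ((ext F₀ (suHom 3 F₀ q₀ (siegel S.hF₀ u 0 κ hs)) : GL (Fin 3) F) : Matrix (Fin 3) (Fin 3) F) *ᵥ z =
          z + ((κ : F) * hermForm 3 F q z (cv F₀ u)) • cv F₀ u := by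
        intro z
        have h5 : ((ext F₀ (suHom 3 F₀ q₀ (siegel S.hF₀ u 0 κ hs)) : GL (Fin 3) F) : Matrix (Fin 3) (Fin 3) F) =
            siegelMat q (cv F₀ u) (cv F₀ 0) (κ : F) := siegelMat_map S u 0 κ
        rw [h5, siegelMat_mulVec, cv_zero, smul_zero, add_zero, herm_zero_right S.hF, sub_zero]
      rw [h2, Units.val_mul, Units.val_mul, ← mulVec_mulVec, ← mulVec_mulVec, h3, mulVec_add, mulVec_smul, ← hw,
        inv_mulVec]
      have h4 : hermForm 3 F q ((P : Matrix (Fin 3) (Fin 3) F) *ᵥ y) (cv F₀ u) = hermForm 3 F q y w := by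
        rw [← hPw, hP']
      rw [h4]) hd hdx
    exact ⟨l, v, by rw [← hw]; exact hlv⟩
  rintro g ⟨hg, -⟩
  rw [h] at hg
  obtain ⟨x, hx, rfl⟩ := hg
  exact Subgroup.mul_mem _ (Subgroup.mul_mem _ (by rw [← inv_inv P]; exact Subgroup.inv_mem _ hPi) hx) hPi

/-- **The maximal subgroups containing `SU_3(q₀)`.** -/
theorem three_std (hF : Fintype.card F = q ^ 2) {r : ℕ} (hr : r.Prime) (hodd : Odd r)
    (hcard : Fintype.card F = Nat.card F₀ ^ r) (S : Setup F₀ q q₀) : ∀ N, IsMaximalIn (SUg 3 F q) N →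
    (SUg 3 F₀ q₀).map (ext F₀) ≤ N → N ≤ subfieldSubgroup F₀ (1 : GL (Fin 3) F) := by
  have hN : Nat.card F₀ = q₀ ^ 2 := by rw [Nat.card_eq_fintype_card, S.hF₀]
  have hqq : q = q₀ ^ r := by
    have h1 : q ^ 2 = (q₀ ^ r) ^ 2 := by rw [← hF, hcard, hN, ← pow_mul, ← pow_mul, mul_comm]
    exact Nat.pow_left_injective two_ne_zero h1
  have hq₀ := two_le S.hF₀
  have hr3 : 3 ≤ r := by
    have := hr.two_le
    rcases this.lt_or_eq with h | h
    · exact h
    · rw [← h] at hodd; exact absurd hodd (by decide)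
  have hq8 : 8 ≤ q := by
    calc 8 = 2 ^ 3 := by norm_num
      _ ≤ q₀ ^ 3 := Nat.pow_le_pow_left hq₀ 3
      _ ≤ q₀ ^ r := Nat.pow_le_pow_right (by omega) hr3
      _ = q := hqq.symm
  have hnp : ¬ q.Prime := by
    intro h
    rw [hqq] at h
    have := Nat.Prime.eq_one_of_pow h
    omega
  have h32 : ¬ (3 = 3 ∧ q = 2) := by omega
  have hF₀t : F₀ ≠ ⊤ := by
    intro h
    have h1 : Nat.card F₀ = Nat.card F := by
      rw [h]
      exact Nat.card_congr Subfield.topEquiv.toEquiv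
    rw [Nat.card_eq_fintype_card (α := F), hcard] at h1
    have h2 : 1 < Nat.card F₀ := Finite.one_lt_card
    have h3 : Nat.card F₀ ^ 1 < Nat.card F₀ ^ r := Nat.pow_lt_pow_right h2 hr.one_lt
    rw [pow_one] at h3
    omega
  obtain ⟨B, hBdef⟩ : ∃ B : Subgroup (GL (Fin 3) F), B = (SUg 3 F₀ q₀).map (ext F₀) := ⟨_, rfl⟩
  rw [← hBdef]
  -- the elements of the subfield group
  have hmem : ∀ g ∈ SUg 3 F₀ q₀, ext F₀ g ∈ B := fun g hg => by
    rw [hBdef]
    exact ⟨g, hg, rfl⟩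
  have hmem' : ∀ g ∈ SUg 3 F₀ q₀, ext F₀ g ∈ SUg 3 F q := fun g hg => ext_mem S hg
  obtain ⟨ζ, hζ⟩ := exists_orderOf_eq S.hF₀
  have hζ1 : ζ ^ (q₀ + 1) = 1 := hζ ▸ pow_orderOf_eq_one ζ
  have hζ0 : ζ ≠ 0 := by
    rintro rfl
    rw [zero_pow (by omega)] at hζ1
    exact zero_ne_one hζ1
  have hζi : (ζ⁻¹) ^ (q₀ + 1) = 1 := by rw [inv_pow, hζ1, inv_one]
  obtain ⟨x₀, hx₀S, hx₀⟩ := exists_diag S.hF₀ hζ1 hζi (one_pow _) (by rw [mul_one]; exact mul_inv_cancel₀ hζ0)
  obtain ⟨y₀, hy₀S, hy₀⟩ := exists_diag S.hF₀ (c := (ζ⁻¹) ^ 2) hζ1 hζ1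
    (by rw [← pow_mul, mul_comm, pow_mul, hζi, one_pow]) (by field_simp)
  obtain ⟨c₀, hc₀S, hc₀⟩ := exists_cyc S.hF₀
  -- in the large field
  set η : F := (ζ : F) with hη
  have hη' : orderOf η = q₀ + 1 := by
    rw [← hζ]
    exact orderOf_injective (F₀.subtype : F₀ →* F) F₀.subtype.injective ζ
  have hη0 : η ≠ 0 := fun h => hζ0 (Subtype.ext h)
  have hx : ((ext F₀ x₀ : GL (Fin 3) F) : Matrix (Fin 3) (Fin 3) F) = Matrix.diagonal ![η, η⁻¹, 1] := by
    rw [ext_diag hx₀]; simp [hη]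
  have hc : ((ext F₀ c₀ : GL (Fin 3) F) : Matrix (Fin 3) (Fin 3) F) = !![0, 0, 1; 1, 0, 0; 0, 1, 0] := ext_cyc hc₀
  have hη1 : η ^ (q + 1) = 1 := by
    have h1 : q₀ + 1 ∣ q + 1 := by
      rw [hqq]
      have := Odd.nat_add_dvd_pow_add_pow q₀ 1 hodd
      rwa [one_pow] at this
    rw [← hη'] at h1
    exact orderOf_dvd_iff_pow_eq_one.1 h1
  intro N hN hBN
  refine le_of_cases hF (by omega) hnp ?_ ?_ ?_ ?_ ?_ hN hBN
  · -- reducible
    intro W hW0 hW1 hle
    rcases irr_of (injective_of hη0 (pow_ne_one_of hη' (by norm_num) (by omega))) hx hc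
      (mulVec_mem_of_stab (hle (hmem _ hx₀S))) (mulVec_mem_of_stab (hle (hmem _ hc₀S))) with h | h
    · exact hW0 h
    · exact hW1 h
  · -- decompositions
    intro P hP hle
    have hdec := (frame_decomp hF hP).decomp
    rcases Nat.lt_or_ge q₀ 3 with h3 | h3
    · have h2 : q₀ = 2 := by omega
      subst h2
      have hω : ζ ^ 2 + ζ + 1 = 0 := by
        have h4 : (ζ - 1) * (ζ ^ 2 + ζ + 1) = 0 := by linear_combination hζ1
        have h5 : ζ ≠ 1 := by
          rintro rfl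
          rw [orderOf_one] at hζ
          omega
        exact (mul_eq_zero.1 h4).resolve_left (sub_ne_zero.2 h5)
      have h2F : ((2 : ℕ) : F) = 0 := by
        have h4 : (Fintype.card F : F) = 0 := FiniteField.cast_card_eq_zero F
        rw [hcard, hN, Nat.cast_pow, Nat.cast_pow] at h4
        exact (pow_eq_zero_iff (by norm_num : 2 ≠ 0)).1 ((pow_eq_zero_iff hr.ne_zero).1 h4)
      have h3F : (3 : F) ≠ 0 := by
        intro h
        have : (1 : F) = 0 := by
          have h6 : (2 : F) = 0 := by exact_mod_cast h2F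
          linear_combination h - h6
        exact one_ne_zero this
      have h3F₀ : (3 : F₀) ≠ 0 := by
        intro h
        apply h3F
        have := congrArg F₀.subtype h
        rwa [map_ofNat, map_zero] at this
      have hωF : η ^ 2 + η + 1 = 0 := by
        have := congrArg (fun z : F₀ => (z : F)) hω
        simpa using this
      obtain ⟨X₀, hX₀S, hX₀⟩ := exists_X S.hF₀ (by norm_num) hω
      obtain ⟨Φ₀, hΦ₀S, hΦ₀⟩ := exists_Phi S.hF₀ (by norm_num) hω h3F₀
      exact dec_R0 hωF h3F (X := ext F₀ X₀) (C := ext F₀ c₀) (Φ := ext F₀ Φ₀) (by rw [ext_diag hX₀]; simp [hη]) hc hdec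
        (ext_fourier hΦ₀) (hle (hmem _ hX₀S)) (hle (hmem _ hc₀S)) (hle (hmem _ hΦ₀S))
    · obtain ⟨ψ, hψ⟩ := exists_permHom hdec
      let f : SUg 3 F₀ q₀ →* Equiv.Perm (Fin 3) := ψ.comp
        { toFun := fun g => ⟨ext F₀ g, hle (hmem _ g.2)⟩
          map_one' := Subtype.ext (map_one (ext F₀))
          map_mul' := fun a b => Subtype.ext (map_mul (ext F₀) (a : GL (Fin 3) F₀) b) }
      have hperf := perfect_top (SUg_perfect S.hF₀ (n := 3) (by norm_num) (by omega))
      have hf := hom_perm_three hperf f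
      have hinv : ∀ g : decompositionStabilizer (frm P), ψ g = 1 →
          ∀ w ∈ frm P 0, ((g : GL (Fin 3) F) : Matrix (Fin 3) (Fin 3) F) *ᵥ w ∈ frm P 0 := by
        intro g hg w hw
        have h5 : (frm P 0).map (Matrix.toLin' ((g : GL (Fin 3) F) : Matrix (Fin 3) (Fin 3) F)) = frm P (ψ g 0) :=
          hψ g 0
        rw [hg, Equiv.Perm.one_apply] at h5
        rw [← h5]
        exact ⟨w, hw, Matrix.toLin'_apply _ _⟩
      have h6 : Module.finrank F (frm P 0) = 1 := hdec.finrank_eq 0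
      rcases irr_of (injective_of hη0 (pow_ne_one_of hη' (by norm_num) (by omega))) hx hc
        (hinv _ (hf ⟨x₀, hx₀S⟩)) (hinv _ (hf ⟨c₀, hc₀S⟩)) with h | h
      · rw [h, finrank_bot] at h6; omega
      · rw [h, finrank_top, Module.finrank_fin_fun] at h6; omega
  · -- fields
    intro K hK _ _ hle
    have h1 := cube_one_of_field hF hK (hle (hmem _ hx₀S)) hη1 hx
    have h2 : q₀ = 2 := by
      have h3 := Nat.le_of_dvd (by norm_num) (orderOf_dvd_of_pow_eq_one h1)
      omega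
    subst h2
    have hω : ζ ^ 2 + ζ + 1 = 0 := by
      have h4 : (ζ - 1) * (ζ ^ 2 + ζ + 1) = 0 := by linear_combination hζ1
      have h5 : ζ ≠ 1 := by
        rintro rfl
        rw [orderOf_one] at hζ
        omega
      exact (mul_eq_zero.1 h4).resolve_left (sub_ne_zero.2 h5)
    have h2F : ((2 : ℕ) : F) = 0 := by
      have h4 : (Fintype.card F : F) = 0 := FiniteField.cast_card_eq_zero F
      rw [hcard, hN, Nat.cast_pow, Nat.cast_pow] at h4
      exact (pow_eq_zero_iff (by norm_num : 2 ≠ 0)).1 ((pow_eq_zero_iff hr.ne_zero).1 h4)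
    have h3F : (3 : F) ≠ 0 := by
      intro h
      have : (1 : F) = 0 := by
        have h6 : (2 : F) = 0 := by exact_mod_cast h2F
        linear_combination h - h6
      exact one_ne_zero this
    have hωF : η ^ 2 + η + 1 = 0 := by
      have := congrArg (fun z : F₀ => (z : F)) hω
      simpa using this
    obtain ⟨X₀, hX₀S, hX₀⟩ := exists_X S.hF₀ (by norm_num) hω
    refine field_R0 hωF h3F (X := ext F₀ X₀) (C := ext F₀ c₀) (by rw [ext_diag hX₀]; simp [hη]) hc hF ?_ hK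
      (hle (hmem _ hX₀S)) (hle (hmem _ hc₀S))
    rw [hqq]
    intro h
    have := Nat.prime_three.dvd_of_dvd_pow h
    omega
  · -- subfields
    intro F₁ r' P hr' hodd' hcard' hP hle
    by_cases hrr : r = r'
    · subst hrr
      have h1 : Nat.card F₀ = Nat.card F₁ := by
        apply Nat.pow_left_injective hr.ne_zero
        show Nat.card F₀ ^ r = Nat.card F₁ ^ r
        rw [← hcard, ← hcard']
      have h2 := subfield_eq_of_card h1
      subst h2
      obtain ⟨P', hP', he⟩ := subfield_same hF hodd' hcard' hP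
      exact same_of_rat S hP' he (hBdef ▸ hle)
    · exfalso
      obtain ⟨q₁, hq₁, hqq', hN', -⟩ := orderOf_cube_dvd hF hodd' hcard' hP (hle (hmem _ hx₀S)) (hmem' _ hx₀S)
      have h1 := pow_card_of_sub hodd' hcard' (hle (hmem _ hx₀S)) hη0 hx
      rw [hN'] at h1
      have h2 : η ^ (q₁ ^ 2 - 1) = 1 := by
        have h3 : η ^ (q₁ ^ 2 - 1) * η = 1 * η := by
          rw [← pow_succ, Nat.sub_add_cancel (Nat.one_le_pow _ _ (by omega)), h1, one_mul]
        exact mul_right_cancel₀ hη0 h3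
      have h3 := orderOf_dvd_of_pow_eq_one h2
      rw [hη'] at h3
      -- common root
      obtain ⟨p, hp⟩ := CharP.exists F
      obtain ⟨n, hpp, hn⟩ := FiniteField.card F p
      have h4 : q ∣ p ^ (n : ℕ) := by rw [← hn, hF]; exact dvd_pow_self q two_ne_zero
      obtain ⟨m, -, hm⟩ := (Nat.dvd_prime_pow hpp).1 h4
      obtain ⟨t, ht₀, ht₁⟩ := exists_common (r := r) (r' := r') hpp (hqq ▸ hm) (by rw [← hqq, ← hqq']) hr hr' hrr
      have ht : 2 ≤ t := by
        rcases Nat.lt_or_ge t 2 with h | h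
        · exfalso
          have : t = 0 ∨ t = 1 := by omega
          rcases this with rfl | rfl
          · rw [zero_pow hr'.ne_zero] at ht₀; omega
          · rw [one_pow] at ht₀; omega
        · exact h
      have h5 : t ^ r' + 1 ∣ t ^ (2 * r) - 1 := by
        rw [← ht₀]
        have : t ^ (2 * r) = q₁ ^ 2 := by rw [ht₁, ← pow_mul, mul_comm]
        rw [this]; exact h3
      have h6 := pow_dvd_aux ht hr'.pos h5
      exact hrr ((Nat.prime_dvd_prime_iff_eq hr' hr).1 h6).symm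
  · -- the real type
    intro hoddq h7 F₁ P hcard' hP hle
    have hq₀3 : 3 ≤ q₀ := by
      rcases Nat.lt_or_ge q₀ 3 with h | h
      · exfalso
        have h2 : q₀ = 2 := by omega
        rw [h2] at hqq
        have : Even q := by rw [hqq]; exact (even_two).pow_of_ne_zero hr.ne_zero
        exact (Nat.not_even_iff_odd.2 hoddq) this
      · exact h
    have h1 := real_comm hF (two_ne hF hoddq) hcard' hP
      (ext_mem_comm S hq₀3 (fun g hg => hle (hmem g hg)) hy₀S) (hmem' _ hy₀S)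
    rw [ext_diag hy₀, ← Matrix.diagonal_one, Matrix.diagonal_sub, Matrix.det_diagonal, Fin.prod_univ_three] at h1
    simp only [Matrix.cons_val_zero, Matrix.cons_val_one, Matrix.cons_val_two, Matrix.head_cons,
      Matrix.tail_cons, mul_eq_zero, or_self, sub_eq_zero, Matrix.cons_val] at h1
    have h6 : η ^ 2 = 1 := by
      rcases h1 with h1 | h1
      · rw [hη, h1, one_pow]
      · have h2 : (η⁻¹) ^ 2 = 1 := by
          rw [hη]
          exact_mod_cast h1
        rw [inv_pow, inv_eq_one] at h2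
        exact h2
    exact pow_ne_one_of hη' (by norm_num) (by omega) h6

end Cfsg.Agent.H972.GUS
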